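import Cfsg.Agent.Spor.Fi31671.L.D0

set_option autoImplicit false
set_option maxRecDepth 100000000
set_option Elab.async false

namespace Cfsg.Agent.Spor.Fi31671.L

theorem uok12 : Net.okb 15 un12 = true := by decide +kernel

theorem rel3 : U.rel 15 [25, 3, 5, 7, 9, 11, 13, 15] 0 15 = true := by decide +kernel

theorem uok13 : Net.okb 15 un13 = true := by decide +kernel

theorem rel4 : U.rel 15 [27, 26, 26, 26, 26, 26, 26, 26, 26, 26] 0 15 = true := by decide +kernel

theorem rel5 : U.rel 15 [28, 1, 27, 1] 0 15 = true := by decide +kernel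

theorem rel6 : U.rel 15 [28, 3, 27, 3] 0 15 = true := by decide +kernel

theorem rel7 : U.rel 15 [28, 5, 27, 5] 0 15 = true := by decide +kernel

theorem rel8 : U.rel 15 [28, 7, 27, 7] 0 15 = true := by decide +kernel

theorem rel9 : U.rel 15 [28, 9, 27, 9] 0 15 = true := by decide +kernel

theorem rel10 : U.rel 15 [28, 11, 27, 11] 0 15 = true := by decide +kernel

theorem rel11 : U.rel 15 [28, 13, 27, 13] 0 15 = true := by decide +kernel

theorem rel12 : U.rel 15 [28, 15, 27, 15] 0 15 = true := by decide +kernel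

theorem rel13 : U.rel 15 [28, 17, 27, 17] 0 15 = true := by decide +kernel

theorem rel14 : U.rel 15 [27, 27] 0 15 = true := by decide +kernel

theorem rel15 : U.rel 15 [13, 11, 9, 7, 15, 5, 7, 9, 3, 5, 7, 15, 11, 13, 9, 11, 7, 9, 5, 7, 15, 3, 5, 7, 9, 11, 13, 19, 27, 19, 13, 11, 9, 7, 5, 3, 15, 7, 5, 9, 7, 11, 9, 13, 11, 15, 7, 5, 3, 9, 7, 5, 15, 7, 9, 11, 13, 19] 0 15 = true := by decide +kernel

theorem sd16 : U.sends [27] 1 7999 = true := by decide +kernel

theorem sd17 : U.sends [3, 1, 3, 1] 6 8 = true := by decide +kernel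

theorem sd18 : U.sends [28, 19, 27, 19] 0 7999 = true := by decide +kernel

theorem rel19 : U.rel 15 [19, 13, 11, 9, 7, 5, 15, 7, 9, 11, 13, 19, 19, 13, 11, 9, 7, 15, 5, 7, 9, 11, 13, 19] 0 15 = true := by decide +kernel

theorem rel20 : U.rel 15 [19, 13, 11, 9, 7, 15, 5, 7, 9, 11, 13, 19, 27, 19, 13, 11, 9, 7, 5, 15, 7, 9, 11, 13, 19, 27, 19, 13, 11, 9, 7, 15, 5, 7, 9, 11, 13, 19, 27, 19, 13, 11, 9, 7, 5, 15, 7, 9, 11, 13, 19, 27] 0 15 = true := by decide +kernel

theorem rel21 : U.rel 15 [19, 19] 0 15 = true := by decide +kernel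

theorem rel22 : U.rel 15 [19, 27, 19, 27, 19, 27, 19, 27, 19, 27, 19, 27] 0 15 = true := by decide +kernel

end Cfsg.Agent.Spor.Fi31671.L
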