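import Cfsg.Agent.Spor.Prim
import Cfsg.Agent.Spor.Fi31671.Main
import Cfsg.Agent.Spor.Fi31671.L.C0
import Cfsg.Agent.Spor.TT2
import Cfsg.Agent.Spor.Fi31671.S.Main

set_option autoImplicit false
set_option maxRecDepth 100000000
set_option Elab.async false

namespace Cfsg.Agent.Spor.Fi31671.L

theorem hU : U.Ok 15 := U.ok_of 15 (show AllP (fun n => Net.okb 15 n = true) [n0, n1, n2, n3, n4, n5, n6, n7, n8, n9, n10, n11, un12, un13] from AllP.cons ok0 (AllP.cons ok1 (AllP.cons ok2 (AllP.cons ok3 (AllP.cons ok4 (AllP.cons ok5 (AllP.cons ok6 (AllP.cons ok7 (AllP.cons ok8 (AllP.cons ok9 (AllP.cons ok10 (AllP.cons ok11 (AllP.cons uok12 (AllP.cons uok13 (AllP.nil)))))))))))))))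

theorem hfP : ∀ j < 10, U.fP [1, 3, 5, 7, 9, 11, 13, 15, 17, 19] j = fP j := by
  intro j hj
  interval_cases j <;> rfl
theorem eG : gsub 10 fP = U.lsub W1 := (gsub_congr hfP).symm.trans (lsub_eq_gsub U [1, 3, 5, 7, 9, 11, 13, 15, 17, 19])
theorem upz1 : ev (atm 10 fP) [0] = U.τ 1 := pz1
theorem upz3 : ev (atm 10 fP) [2] = U.τ 3 := pz2
theorem upz5 : ev (atm 10 fP) [4] = U.τ 5 := pz3
theorem upz7 : ev (atm 10 fP) [6] = U.τ 7 := pz4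
theorem upz9 : ev (atm 10 fP) [8] = U.τ 9 := pz5
theorem upz11 : ev (atm 10 fP) [10] = U.τ 11 := pz6
theorem upz13 : ev (atm 10 fP) [12] = U.τ 13 := pz7
theorem upz15 : ev (atm 10 fP) [14] = U.τ 15 := pz8
theorem upz17 : ev (atm 10 fP) [16] = U.τ 17 := pz9
theorem upz19 : ev (atm 10 fP) [18] = U.τ 19 := pz10
theorem upz21 : ev (atm 10 fP) [6, 4, 2, 6, 8, 10, 6, 14, 16] = U.τ 21 := pz11
theorem upz23 : ev (atm 10 fP) [0, 2, 4, 6, 8, 10, 14] = U.τ 23 := pz13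
theorem eH : wsub 10 fP BW = U.lsub W2 :=
  lsub_eq_of_all₂ (show List.Forall₂ _ [[0], [2], [4], [6], [8], [10], [12], [14], [16]] [[1], [3], [5], [7], [9], [11], [13], [15], [17]] from List.Forall₂.cons (upz1.trans (one_mul _).symm) (List.Forall₂.cons (upz3.trans (one_mul _).symm) (List.Forall₂.cons (upz5.trans (one_mul _).symm) (List.Forall₂.cons (upz7.trans (one_mul _).symm) (List.Forall₂.cons (upz9.trans (one_mul _).symm) (List.Forall₂.cons (upz11.trans (one_mul _).symm) (List.Forall₂.cons (upz13.trans (one_mul _).symm) (List.Forall₂.cons (upz15.trans (one_mul _).symm) (List.Forall₂.cons (upz17.trans (one_mul _).symm) (List.Forall₂.nil))))))))))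
theorem vpz1 : PZ U (atm 10 fP) EXU 1 := pz1
theorem vpz2 : PZ U (atm 10 fP) EXU 2 := PZ.of_inv hiv vpz1 (by decide +kernel)
theorem vpz3 : PZ U (atm 10 fP) EXU 3 := pz2
theorem vpz4 : PZ U (atm 10 fP) EXU 4 := PZ.of_inv hiv vpz3 (by decide +kernel)
theorem vpz5 : PZ U (atm 10 fP) EXU 5 := pz3
theorem vpz6 : PZ U (atm 10 fP) EXU 6 := PZ.of_inv hiv vpz5 (by decide +kernel)
theorem vpz7 : PZ U (atm 10 fP) EXU 7 := pz4
theorem vpz8 : PZ U (atm 10 fP) EXU 8 := PZ.of_inv hiv vpz7 (by decide +kernel)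
theorem vpz9 : PZ U (atm 10 fP) EXU 9 := pz5
theorem vpz10 : PZ U (atm 10 fP) EXU 10 := PZ.of_inv hiv vpz9 (by decide +kernel)
theorem vpz11 : PZ U (atm 10 fP) EXU 11 := pz6
theorem vpz12 : PZ U (atm 10 fP) EXU 12 := PZ.of_inv hiv vpz11 (by decide +kernel)
theorem vpz13 : PZ U (atm 10 fP) EXU 13 := pz7
theorem vpz14 : PZ U (atm 10 fP) EXU 14 := PZ.of_inv hiv vpz13 (by decide +kernel)
theorem vpz15 : PZ U (atm 10 fP) EXU 15 := pz8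
theorem vpz16 : PZ U (atm 10 fP) EXU 16 := PZ.of_inv hiv vpz15 (by decide +kernel)
theorem vpz17 : PZ U (atm 10 fP) EXU 17 := pz9
theorem vpz18 : PZ U (atm 10 fP) EXU 18 := PZ.of_inv hiv vpz17 (by decide +kernel)
theorem vpz19 : PZ U (atm 10 fP) EXU 19 := pz10
theorem vpz20 : PZ U (atm 10 fP) EXU 20 := PZ.of_inv hiv vpz19 (by decide +kernel)
theorem vpz21 : PZ U (atm 10 fP) EXU 21 := pz11
theorem vpz22 : PZ U (atm 10 fP) EXU 22 := PZ.of_inv hiv vpz21 (by decide +kernel)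
theorem vpz23 : PZ U (atm 10 fP) EXU 23 := pz13
theorem vpz24 : PZ U (atm 10 fP) EXU 24 := PZ.of_inv hiv vpz23 (by decide +kernel)
theorem vpz25 : PZ U (atm 10 fP) EXU 25 := PZ.of_def hiv (d := [3, 5, 7, 9, 11, 13, 15]) (AllP.cons vpz3 (AllP.cons vpz5 (AllP.cons vpz7 (AllP.cons vpz9 (AllP.cons vpz11 (AllP.cons vpz13 (AllP.cons vpz15 (AllP.nil)))))))) (hU.one rel3) (by decide +kernel)
theorem vpz26 : PZ U (atm 10 fP) EXU 26 := PZ.of_inv hiv vpz25 (by decide +kernel)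
theorem vpz27 : PZ U (atm 10 fP) EXU 27 := PZ.of_def hiv (d := [26, 26, 26, 26, 26, 26, 26, 26, 26]) (AllP.cons vpz26 (AllP.cons vpz26 (AllP.cons vpz26 (AllP.cons vpz26 (AllP.cons vpz26 (AllP.cons vpz26 (AllP.cons vpz26 (AllP.cons vpz26 (AllP.cons vpz26 (AllP.nil)))))))))) (hU.one rel4) (by decide +kernel)
theorem vpz28 : PZ U (atm 10 fP) EXU 28 := PZ.of_inv hiv vpz27 (by decide +kernel)
theorem hPZU : AllP (PZ U (atm 10 fP) EXU) LU :=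
  show AllP (PZ U (atm 10 fP) EXU) [1, 2, 3, 4, 5, 6, 7, 8, 9, 10, 11, 12, 13, 14, 15, 16, 17, 18, 19, 20, 21, 22, 23, 24, 25, 26, 27, 28] from AllP.cons vpz1 (AllP.cons vpz2 (AllP.cons vpz3 (AllP.cons vpz4 (AllP.cons vpz5 (AllP.cons vpz6 (AllP.cons vpz7 (AllP.cons vpz8 (AllP.cons vpz9 (AllP.cons vpz10 (AllP.cons vpz11 (AllP.cons vpz12 (AllP.cons vpz13 (AllP.cons vpz14 (AllP.cons vpz15 (AllP.cons vpz16 (AllP.cons vpz17 (AllP.cons vpz18 (AllP.cons vpz19 (AllP.cons vpz20 (AllP.cons vpz21 (AllP.cons vpz22 (AllP.cons vpz23 (AllP.cons vpz24 (AllP.cons vpz25 (AllP.cons vpz26 (AllP.cons vpz27 (AllP.cons vpz28 (AllP.nil))))))))))))))))))))))))))))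
theorem hXN : ∀ l ∈ XN, ev (atm 10 fP) l = 1 :=
  relAll_sound hiv (W := [[28, 1, 27, 1], [28, 3, 27, 3], [28, 5, 27, 5], [28, 7, 27, 7], [28, 9, 27, 9], [28, 11, 27, 11], [28, 13, 27, 13], [28, 15, 27, 15], [28, 17, 27, 17], [27, 27], [13, 11, 9, 7, 15, 5, 7, 9, 3, 5, 7, 15, 11, 13, 9, 11, 7, 9, 5, 7, 15, 3, 5, 7, 9, 11, 13, 19, 27, 19, 13, 11, 9, 7, 5, 3, 15, 7, 5, 9, 7, 11, 9, 13, 11, 15, 7, 5, 3, 9, 7, 5, 15, 7, 9, 11, 13, 19]]) (rules := [⟨[28, 1, 27, 1], [], 0, true⟩, ⟨[28, 3, 27, 3], [], 1, true⟩, ⟨[28, 5, 27, 5], [], 2, true⟩, ⟨[28, 7, 27, 7], [], 3, true⟩, ⟨[28, 9, 27, 9], [], 4, true⟩, ⟨[28, 11, 27, 11], [], 5, true⟩, ⟨[28, 13, 27, 13], [], 6, true⟩, ⟨[28, 15, 27, 15], [], 7, true⟩, ⟨[28, 17, 27, 17], [], 8, true⟩, ⟨[27, 27], [], 9, true⟩, ⟨[13, 11, 9, 7, 15, 5, 7, 9, 3, 5, 7, 15, 11, 13, 9, 11, 7, 9, 5, 7, 15, 3, 5, 7, 9, 11,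 13, 19, 27, 19, 13, 11, 9, 7, 5, 3, 15, 7, 5, 9, 7, 11, 9, 13, 11, 15, 7, 5, 3, 9, 7, 5, 15, 7, 9, 11, 13, 19], [], 10, true⟩]) hPZU (AllP.cons (hU.one rel5) (AllP.cons (hU.one rel6) (AllP.cons (hU.one rel7) (AllP.cons (hU.one rel8) (AllP.cons (hU.one rel9) (AllP.cons (hU.one rel10) (AllP.cons (hU.one rel11) (AllP.cons (hU.one rel12) (AllP.cons (hU.one rel13) (AllP.cons (hU.one rel14) (AllP.cons (hU.one rel15) (AllP.nil)))))))))))) (by decide +kernel)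
theorem z_ne : ev (atm 10 fP) [2, 4, 6, 8, 10, 12, 14, 2, 4, 6, 8, 10, 12, 14, 2, 4, 6, 8, 10, 12, 14, 2, 4, 6, 8, 10, 12, 14, 2, 4, 6, 8, 10, 12, 14, 2, 4, 6, 8, 10, 12, 14, 2, 4, 6, 8, 10, 12, 14, 2, 4, 6, 8, 10, 12, 14, 2, 4, 6, 8, 10, 12, 14] ≠ 1 :=
  ne_one_of_sends (ev_eq_evA hiv hPZU (by decide +kernel)) (hU.sends sd16) (by decide)
theorem ab_ne : ev (atm 10 fP) [0, 2, 0, 2] ≠ 1 :=
  ne_one_of_sends (ev_eq_evA hiv hPZU (by decide +kernel)) (hU.sends sd17) (by decide)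
theorem jz_ne : ev (atm 10 fP) [18, 2, 4, 6, 8, 10, 12, 14, 2, 4, 6, 8, 10, 12, 14, 2, 4, 6, 8, 10, 12, 14, 2, 4, 6, 8, 10, 12, 14, 2, 4, 6, 8, 10, 12, 14, 2, 4, 6, 8, 10, 12, 14, 2, 4, 6, 8, 10, 12, 14, 2, 4, 6, 8, 10, 12, 14, 2, 4, 6, 8, 10, 12, 14, 18, 14, 12, 10, 8, 6, 4, 2, 14, 12, 10, 8, 6, 4, 2, 14, 12, 10, 8, 6, 4, 2, 14, 12, 10, 8, 6, 4, 2, 14, 12, 10, 8, 6, 4, 2, 14, 12, 10, 8, 6, 4, 2, 14, 12, 10, 8, 6, 4, 2, 14, 12, 10, 8, 6, 4, 2, 14, 12, 10, 8, 6, 4, 2] ≠ 1 :=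
  ne_one_of_sends (ev_eq_evA hiv hPZU (by decide +kernel)) (hU.sends sd18) (by decide)
theorem htt : AllP (fun x : SubO => TTOk (U.τ 27) (evA S.U.τ x.1)) S.X :=
  show AllP (fun w : List ℕ => TTOk (U.τ 27) (evA U.τ w)) [[19, 13, 11, 9, 7, 5, 15, 7, 9, 11, 13, 19], [19]] from AllP.cons (ttOk2 (w := [19, 13, 11, 9, 7, 5, 15, 7, 9, 11, 13, 19]) (iw := [19, 13, 11, 9, 7, 15, 5, 7, 9, 11, 13, 19]) (d := [27]) (hU.one rel19) (hU.one rel20)) (AllP.cons (ttOk3 (w := [19]) (iw := [19]) (d := [27]) (hU.one rel21) (hU.one rel22)) (AllP.nil))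
theorem ez : ev (atm 10 fP) [2, 4, 6, 8, 10, 12, 14, 2, 4, 6, 8, 10, 12, 14, 2, 4, 6, 8, 10, 12, 14, 2, 4, 6, 8, 10, 12, 14, 2, 4, 6, 8, 10, 12, 14, 2, 4, 6, 8, 10, 12, 14, 2, 4, 6, 8, 10, 12, 14, 2, 4, 6, 8, 10, 12, 14, 2, 4, 6, 8, 10, 12, 14] = U.τ 27 := vpz27

end Cfsg.Agent.Spor.Fi31671.L
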